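/-
Coset enumeration data, found by a computer search; checked by `decide +kernel`.
-/
import Cfsg.Agent.Lib.Spor.TC.Check

namespace CfsgLib.Spor.HeInvCent.CD

open CfsgLib.Spor.TC

def edgeTbl : Tbl :=
  .bin (.tip 0x700006000005000071000040000610000300005000002000040000010000310000000002100000000010) (.none)

def nodeTbl : Tbl :=
  .bin (.tip 0x51000041000030000020000011000001000000000000) (.none)

def rowTbl : Tbl :=
  .bin (.tip 0x700006000050000400003000020000100000) (.none)

def rels : List (List ℕ) := [[0, 1, 0, 1, 0, 1, 0, 1]]

def subs : List (List ℕ) := []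

noncomputable def cert : Cert :=
  ⟨2, rels, subs, edgeTbl.get 44, nodeTbl.get 24, rowTbl.get 20⟩

end CfsgLib.Spor.HeInvCent.CD
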