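/-
Coset enumeration certificate, found by a computer search.
-/
import Cfsg.Agent.Lib.Spor.HeInvCent.CD.Data

namespace CfsgLib.Spor.HeInvCent.CD

open CfsgLib.Spor.TC

def scodes0_0 : List ℕ :=
  [0x1,
   0x1,
   0x1,
   0x1,
   0x1,
   0x1,
   0x1,
   0xb000070000300002000060000a0000e00003000040000100002]

def scodes0_ : List ℕ :=
  scodes0_0

set_option maxRecDepth 100000 in
theorem steps0 : cert.StepsOK 0 8 :=
  Cert.StepsOK.of_check _ (codes := scodes0_) (by decide +kernel)

def rcodes0_0 : List ℕ :=
  [0x20000300000000002,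
   0x40000400000100001,
   0x30000100000600005,
   0x50000200000800006,
   0xa0000700000700003,
   0xc0000800000900004,
   0xb0000500000f00008,
   0xd0000600000e00007]

def rcodes0_ : List ℕ :=
  rcodes0_0

set_option maxRecDepth 100000 in
theorem rows0 : cert.RowsOK 8 8 0 8 :=
  Cert.RowsOK.of_check _ (codes := rcodes0_) (by decide +kernel)

end CfsgLib.Spor.HeInvCent.CD
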